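import Cfsg.Agent.Lib.Helper4.PLiftU1
import Cfsg.Agent.Lib.Helper4.PLiftU2

set_option autoImplicit false

/-! S2399: the abstract pieces [U1], [U2], [U3] combined: a projective representation, in
characteristic `p`, of a finite perfect group has a lift that is multiplicative on `p`-subgroups. -/

namespace Cfsg.Agent.Lib.Helper29.PLift

/-- [U3] (architect's own copy) the centre of `GL_n(L)`, `char L = p`, has no `p`-torsion -/
theorem center_GL_pow_eq_one_aux {L : Type*} [Field L] (p : ℕ) [Fact p.Prime] [CharP L p] {n : ℕ}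
    {a : GL (Fin n) L} (ha : a ∈ Subgroup.center (GL (Fin n) L)) (h : a ^ p = 1) : a = 1 := by
  obtain ⟨c, hc⟩ := Matrix.GeneralLinearGroup.mem_center_iff_val_mem_range_scalar.mp ha
  rcases isEmpty_or_nonempty (Fin n) with hn | ⟨⟨i⟩⟩
  · apply Units.ext
    exact Subsingleton.elim _ _
  · have h1 : ((a ^ p : GL (Fin n) L) : Matrix (Fin n) (Fin n) L) = 1 := by rw [h]; rfl
    rw [Units.val_pow_eq_pow_val, ← hc, ← map_pow] at h1
    have h2 : c ^ p = 1 := by
      have := congrFun (congrFun h1 i) i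
      simpa using this
    have h3 : (c - 1) ^ p = 0 := by rw [sub_pow_char, h2, one_pow, sub_self]
    have hc1 : c = 1 := sub_eq_zero.mp (pow_eq_zero_iff (Fact.out : p.Prime).ne_zero |>.mp h3)
    apply Units.ext
    rw [← hc, hc1, map_one]
    rfl

theorem exists_lift_on_pgroups {G : Type*} [Group G] [Finite G] (hperf : commutator G = ⊤)
    {L : Type*} [Field L] (p : ℕ) [Fact p.Prime] [CharP L p] {n : ℕ}
    (φ : G →* GL (Fin n) L ⧸ Subgroup.center (GL (Fin n) L)) :
    ∃ lam : G → GL (Fin n) L, ∀ P : Subgroup G, IsPGroup p P →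
      (∀ x ∈ P, (QuotientGroup.mk' (Subgroup.center (GL (Fin n) L))) (lam x) = φ x) ∧
      (∀ x ∈ P, ∀ y ∈ P, lam (x * y) = lam x * lam y) := by
  obtain ⟨H, hfin, hcov⟩ := exists_finite_cover hperf (Subgroup.center (GL (Fin n) L)) le_rfl φ
  have := hfin
  let π : ↥H →* GL (Fin n) L ⧸ Subgroup.center (GL (Fin n) L) :=
    (QuotientGroup.mk' (Subgroup.center (GL (Fin n) L))).comp H.subtype
  have hmem : ∀ a ∈ π.ker, (a : GL (Fin n) L) ∈ Subgroup.center (GL (Fin n) L) := by
    intro a ha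
    rw [MonoidHom.mem_ker] at ha
    exact (QuotientGroup.eq_one_iff _).mp ha
  have hc : π.ker ≤ Subgroup.center ↥H := by
    intro a ha
    rw [Subgroup.mem_center_iff]
    intro g
    apply Subtype.ext
    exact Subgroup.mem_center_iff.mp (hmem a ha) g
  have htf : ∀ a ∈ π.ker, a ^ p = 1 → a = 1 := by
    intro a ha h
    apply Subtype.ext
    refine center_GL_pow_eq_one_aux p (hmem a ha) ?_
    have := congrArg Subtype.val h
    simpa using this
  obtain ⟨lam', hlam⟩ := exists_pLift p π hc htf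
  refine ⟨fun g => (lam' (φ g) : GL (Fin n) L), fun P hP => ?_⟩
  have hP' : IsPGroup p (P.map φ) := hP.map φ
  have hle : P.map φ ≤ π.range := by
    rintro _ ⟨g, -, rfl⟩
    obtain ⟨y, hy, e⟩ := hcov g
    exact ⟨⟨y, hy⟩, e⟩
  obtain ⟨h1, h2⟩ := hlam (P.map φ) hP' hle
  refine ⟨fun x hx => h1 (φ x) ⟨x, hx, rfl⟩, fun x hx y hy => ?_⟩
  show ((lam' (φ (x * y)) : ↥H) : GL (Fin n) L) = _
  rw [map_mul, h2 _ ⟨x, hx, rfl⟩ _ ⟨y, hy, rfl⟩]
  rfl

end Cfsg.Agent.Lib.Helper29.PLift
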