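import Cfsg.Agent.Lib.Helper29.PLift.Pair
import Cfsg.Agent.Lib.Helper13.PLiftU5a

set_option autoImplicit false

/-! S2399, piece [U5b]: two root subgroups that are not opposite lie in a common `p`-subgroup. -/

namespace Cfsg.Agent.Lib.Helper29.PLift

open Cfsg.Lie Cfsg.Agent.Lib.Helper8.Chev

variable {D : ChevalleyDatum}

/-- [U5b] two root subgroups that are not opposite lie in a common `p`-subgroup -/
theorem exists_pgroup_pair {K : Type*} [Field K] [Fintype K] (p : ℕ) [Fact p.Prime] [CharP K p]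
    (hD : D ∈ [chevG2, chevB2, chevD4, chevF4, chevE6, chevE7, chevE8])
    {r s : ℕ} (hr : r < D.nroots) (hs : s < D.nroots) (h2 : s ≠ D.neg r) :
    ∃ P : Subgroup (GL D.Idx K), IsPGroup p P ∧ D.rootSubgroup K r ≤ P ∧
      D.rootSubgroup K s ≤ P :=
  exists_pgroup_pair_of_word p hD hr hs (exists_word_pos hD hr hs h2)

end Cfsg.Agent.Lib.Helper29.PLift
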