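import Cfsg.Agent.Lib.Helper29.PLift.Comb
import Cfsg.Agent.Lib.Helper29.PLift.PairMain
import Cfsg.Agent.Lib.Helper12.PLiftU6
import Cfsg.Agent.Lib.Helper9.StCCBBT
import Cfsg.Agent.Lib.Helper14.StCC.SectionCore
import Cfsg.Agent.S2395

set_option autoImplicit false

/-! S2399, the finite-field case: over a finite field `K` of characteristic `p` every projective
representation of `D.group K` over a field of characteristic `p` lifts to `Δ`. -/

namespace Cfsg.Agent.Lib.Helper29.PLift

open Cfsg.Lie Cfsg.Agent.Lib.Helper8.Chev Cfsg.Agent.Lib.Helper14.StCC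

variable {D : ChevalleyDatum}

theorem exists_lift_finite {K : Type*} [Field K] [Fintype K] (p : ℕ) [Fact p.Prime] [CharP K p]
    (hD : D ∈ [chevG2, chevB2, chevD4, chevF4, chevE6, chevE7, chevE8])
    (hK : D ∈ [chevB2, chevG2] → ∃ x : K, x ≠ 0 ∧ x ≠ 1)
    (θ : D.SteinbergCover K →* ↥(D.group K))
    (hθ : ∀ (r : ℕ) (t : K), r < D.nroots →
      ((θ (D.scGen K r t) : GL D.Idx K) : Matrix D.Idx D.Idx K) = D.x K r t)
    {L : Type*} [Field L] [CharP L p] {n : ℕ}
    (φ : ↥(D.group K) →* GL (Fin n) L ⧸ Subgroup.center (GL (Fin n) L)) :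
    ∃ ψ : D.SteinbergCover K →* GL (Fin n) L,
      (QuotientGroup.mk' (Subgroup.center (GL (Fin n) L))).comp ψ = φ.comp θ := by
  classical
  have V := valid0_of_mem hD
  set S := scRepOf hD θ hθ with hS
  -- `θ` is the canonical map, hence surjective
  have hof : ∀ a : Fin D.nroots × K,
      (PresentedGroup.of a : D.SteinbergCover K) = D.scGen K a.1.val a.2 := by
    intro a
    unfold ChevalleyDatum.scGen ChevalleyDatum.stX PresentedGroup.of
    rw [dif_pos a.1.isLt]
  have hθeq : θ = scHom hD K := by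
    apply PresentedGroup.ext
    intro a
    apply Subtype.ext
    apply Units.ext
    rw [hof a, hθ _ _ a.1.isLt, scHom_scGen hD _ _ a.1.isLt]
  have hsurj : Function.Surjective θ := hθeq ▸ scHom_surjective hD
  have hperfΔ : commutator (D.SteinbergCover K) = ⊤ := Cfsg.Agent.S2395.result D hD hK
  have hperfG : commutator ↥(D.group K) = ⊤ := by
    rw [eq_top_iff]
    intro x _
    obtain ⟨d, rfl⟩ := hsurj x
    have hd : d ∈ commutator (D.SteinbergCover K) := by rw [hperfΔ]; trivial
    have h1 := Subgroup.mem_map_of_mem θ hd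
    rw [commutator_def, Subgroup.map_commutator] at h1
    exact Subgroup.commutator_mono le_top le_top h1
  have : Finite ↥(D.group K) := inferInstance
  obtain ⟨lam, hlam⟩ := exists_lift_on_pgroups hperfG p φ
  -- the root elements of `G`
  let g : ℕ → K → ↥(D.group K) := fun q t => θ (D.scGen K q t)
  have hgmem : ∀ q < D.nroots, ∀ t,
      ((g q t : ↥(D.group K)) : GL D.Idx K) ∈ D.rootSubgroup K q :=
    fun q hq t => Subgroup.subset_closure ⟨t, hθ q t hq⟩
  have hpair : ∀ r < D.nroots, ∀ s < D.nroots, s ≠ D.neg r →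
      ∃ P : Subgroup ↥(D.group K), IsPGroup p P ∧ (∀ t, g r t ∈ P) ∧ (∀ u, g s u ∈ P) := by
    intro r hr s hs h2
    obtain ⟨P, hP, h1, h3⟩ := exists_pgroup_pair (K := K) p hD hr hs h2
    exact ⟨P.subgroupOf (D.group K), hP.comap_subtype,
      fun t => h1 (hgmem r hr t), fun u => h3 (hgmem s hs u)⟩
  have hterms : ∀ r < D.nroots, ∀ s < D.nroots, s ≠ r → s ≠ D.neg r →
      ∃ P : Subgroup ↥(D.group K), IsPGroup p P ∧
        ∀ c ∈ D.commTerms r s, ∀ t, g c.1 t ∈ P := by
    intro r hr s hs h1 h2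
    obtain ⟨P, hP, h⟩ := exists_pgroup_terms (K := K) p hD (B.shapeP_of_mem hD hr hs h1 h2)
    exact ⟨P.subgroupOf (D.group K), hP.comap_subtype,
      fun c hc t => h c hc (hgmem c.1 (commTerms_lt V hr hs c hc) t)⟩
  -- the relations in `G`
  have hadd : ∀ r < D.nroots, ∀ t u, g r t * g r u = g r (t + u) := by
    intro r hr t u
    show θ _ * θ _ = θ _
    rw [← map_mul]
    exact congrArg θ (S.add r hr t u)
  have hwS : ∀ w : List (ℕ × K), θ (wS S.x w) = wS g w := by
    intro w
    induction w with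
    | nil => simp
    | cons q w ih =>
      rw [wS_cons, wS_cons, map_mul, ih]
      rfl
  have hcomm : ∀ r < D.nroots, ∀ s < D.nroots, s ≠ r → s ≠ D.neg r → ∀ t u,
      g s u * g r t = g r t * g s u * wS g (D.commWord K r s t u) := by
    intro r hr s hs h1 h2 t u
    have := congrArg θ (S.comm r hr s hs h1 h2 t u)
    rw [map_mul, map_mul, map_mul, hwS] at this
    exact this
  -- the lifts
  let φ' : ℕ → K → GL (Fin n) L := fun q t => lam (g q t)
  have hlam1 : ∀ P : Subgroup ↥(D.group K), IsPGroup p P → lam 1 = 1 := by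
    intro P hP
    have := (hlam P hP).2 1 P.one_mem 1 P.one_mem
    rw [mul_one] at this
    exact mul_eq_left.mp this.symm
  have hword : ∀ P : Subgroup ↥(D.group K), IsPGroup p P → ∀ w : List (ℕ × K),
      (∀ q ∈ w, g q.1 q.2 ∈ P) → wS g w ∈ P ∧ lam (wS g w) = wS φ' w := by
    intro P hP w
    induction w with
    | nil =>
      intro _
      rw [wS_nil, wS_nil]
      exact ⟨P.one_mem, hlam1 P hP⟩
    | cons q w ih =>
      intro hw
      obtain ⟨h1, h2⟩ := ih fun q' hq' => hw q' (List.mem_cons_of_mem _ hq')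
      have hq := hw q List.mem_cons_self
      rw [wS_cons, wS_cons]
      exact ⟨P.mul_mem hq h1, by rw [(hlam P hP).2 _ hq _ h1, h2]⟩
  have hne : ∀ r < D.nroots, r ≠ D.neg r := by
    intro r hr
    rw [V.neg_eq r hr]
    have := V.even
    omega
  have hadd' : ∀ r < D.nroots, ∀ t u, φ' r t * φ' r u = φ' r (t + u) := by
    intro r hr t u
    obtain ⟨P, hP, h1, -⟩ := hpair r hr r hr (hne r hr)
    show lam _ * lam _ = lam _
    rw [← (hlam P hP).2 _ (h1 t) _ (h1 u), hadd r hr]
  have hcomm' : ∀ r < D.nroots, ∀ s < D.nroots, s ≠ r → s ≠ D.neg r → ∀ t u,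
      φ' s u * φ' r t = φ' r t * φ' s u * wS φ' (D.commWord K r s t u) := by
    intro r hr s hs h1 h2 t u
    obtain ⟨P, hP, hPr, hPs⟩ := hpair r hr s hs h2
    obtain ⟨P', hP', hPt⟩ := hterms r hr s hs h1 h2
    have hW : wS g (D.commWord K r s t u) ∈ P := by
      have e : wS g (D.commWord K r s t u) = (g r t * g s u)⁻¹ * (g s u * g r t) := by
        rw [hcomm r hr s hs h1 h2 t u]; group
      rw [e]
      exact P.mul_mem (P.inv_mem (P.mul_mem (hPr t) (hPs u))) (P.mul_mem (hPs u) (hPr t))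
    have hW' := (hword P' hP' (D.commWord K r s t u) (by
      intro q hq
      unfold ChevalleyDatum.commWord at hq
      obtain ⟨c, hc, rfl⟩ := List.mem_map.mp hq
      exact hPt c hc _)).2
    have e1 := (hlam P hP).2 _ (hPs u) _ (hPr t)
    have e2 := (hlam P hP).2 _ (P.mul_mem (hPr t) (hPs u)) _ hW
    have e3 := (hlam P hP).2 _ (hPr t) _ (hPs u)
    show lam (g s u) * lam (g r t) = lam (g r t) * lam (g s u) * _
    rw [← e1, hcomm r hr s hs h1 h2 t u, e2, e3, hW']
  -- the homomorphism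
  have hrel : ∀ x ∈ D.steinbergRelsAB K,
      FreeGroup.lift (fun a : Fin D.nroots × K => φ' a.1.val a.2) x = 1 := by
    rintro x (⟨r, t₁, t₂, hr, rfl⟩ | ⟨r, s, t, u, hr, hs, h1, h2, rfl⟩)
    · rw [map_mul, map_mul, map_inv, lift_stX_of φ' hr, lift_stX_of φ' hr, lift_stX_of φ' hr,
        hadd' r hr, mul_inv_cancel]
    · have hw : ∀ q ∈ D.commWord K r s t u, q.1 < D.nroots := by
        intro q hq
        unfold ChevalleyDatum.commWord at hq
        obtain ⟨c, hc', rfl⟩ := List.mem_map.mp hq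
        exact commTerms_lt V hr hs c hc'
      rw [map_mul, map_mul, map_mul, map_mul, map_inv, map_inv, map_inv,
        lift_stWord_of φ' _ hw, lift_stX_of φ' hr, lift_stX_of φ' hs]
      have e := hcomm' r hr s hs h1 h2 t u
      have e' : wS φ' (D.commWord K r s t u) = (φ' r t * φ' s u)⁻¹ * (φ' s u * φ' r t) := by
        rw [e]; group
      rw [e']
      group
  refine ⟨PresentedGroup.toGroup hrel, ?_⟩
  apply PresentedGroup.ext
  intro a
  rw [MonoidHom.comp_apply, PresentedGroup.toGroup.of, MonoidHom.comp_apply, hof a]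
  obtain ⟨P, hP, h1, -⟩ := hpair a.1.val a.1.isLt a.1.val a.1.isLt (hne _ a.1.isLt)
  exact (hlam P hP).1 _ (h1 a.2)

end Cfsg.Agent.Lib.Helper29.PLift
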