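import Cfsg.Agent.Lib.Helper8.ChevHi9

set_option autoImplicit false

/-! S2399, piece [U5b] (core): two root subgroups made positive by one element of the Weyl group
lie in a common `p`-subgroup, a conjugate of `U` (as in helper8's S2186).  The word comes from the
table piece [U5a]. -/

namespace Cfsg.Agent.Lib.Helper29.PLift

open Cfsg.Lie Cfsg.Agent.Lib.Helper8.Chev

variable {D : ChevalleyDatum}

theorem exists_pgroup_pair_of_word {K : Type*} [Field K] [Fintype K] (p : ℕ) [Fact p.Prime]
    [CharP K p] (hD : D ∈ [chevG2, chevB2, chevD4, chevF4, chevE6, chevE7, chevE8])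
    {r s : ℕ} (hr : r < D.nroots) (hs : s < D.nroots)
    (hw : ∃ l : List ℕ, (∀ i ∈ l, i < D.rank) ∧ D.nroots / 2 ≤ reflWord D l r ∧
      D.nroots / 2 ≤ reflWord D l s) :
    ∃ P : Subgroup (GL D.Idx K), IsPGroup p P ∧ D.rootSubgroup K r ≤ P ∧
      D.rootSubgroup K s ≤ P := by
  have J := validJ_of_mem hD
  have H := validH_of_mem hD
  have P0 := posP_of_mem hD
  obtain ⟨l, hl, h1, h3⟩ := hw
  have hp1 : D.IsPosRoot (reflWord D l r) := (P0 _ (reflWord_lt J H.nS hl hr)).1.mpr h1
  have hp2 : D.IsPosRoot (reflWord D l s) := (P0 _ (reflWord_lt J H.nS hl hs)).1.mpr h3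
  have hU := isPGroup_pos (F := K) p hD
  refine ⟨(D.posUnipotent K).comap (MulAut.conj (nP D K l)).toMonoidHom, ?_, ?_, ?_⟩
  · exact hU.comap_of_injective _ (MulAut.conj (nP D K l)).injective
  · rw [← Subgroup.map_le_iff_le_comap, map_conj_nP hD hl hr]
    exact rootSubgroup_le_pos hp1
  · rw [← Subgroup.map_le_iff_le_comap, map_conj_nP hD hl hs]
    exact rootSubgroup_le_pos hp2

end Cfsg.Agent.Lib.Helper29.PLift
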